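import Groth.Agent.Perf96.Sections
import Groth.Agent.Amp73.PullTensor
import Groth.Agent.Amp73.FrameGlue
import Groth.Agent.Amp73.Powers
import Groth.Agent.EGA73.LineCocycle
import Groth.Agent.TrivLine96.Basic

/-! Invertible modules and perfections: descent of sections, of triviality, of modules, of ampleness. -/

set_option autoImplicit false
set_option linter.unusedSectionVars false
set_option backward.isDefEq.respectTransparency.types false

universe u

open CategoryTheory CategoryTheory.Limits AlgebraicGeometry Opposite TopologicalSpace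

noncomputable section

namespace Groth.Agent.PerfSch56

open Var76.LineBundle Var76.ZeroScheme Perf96

variable {p : ℕ} [hp : Fact p.Prime]

theorem exists_iso_of_cl_eq {Y : Scheme.{u}} {L L' : Y.Modules} (h : PicF.cl L = PicF.cl L') :
    Nonempty (L ≅ L') := by
  have e : Equivalence fun L L' : Y.Modules => Nonempty (L ≅ L') :=
    ⟨fun L => ⟨Iso.refl L⟩, fun ⟨i⟩ => ⟨i.symm⟩, fun ⟨i⟩ ⟨j⟩ => ⟨i ≪≫ j⟩⟩
  exact e.eqvGen_iff.1 (Quot.eqvGen_exact h)

/-- The unit section. -/
abbrev one {X : Scheme.{u}} (U : X.Opens) : Γ(Coh.structureModule X, U) := (1 : Γ(X, U))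

theorem isFrame_one {X : Scheme.{u}} (U : X.Opens) : IsFrame (Coh.structureModule X) U (one U) :=
  (Amp73.isFrame_iff_le_genLocus (𝟙 (Coh.structureModule X)) U).2 (le_top.trans Amp73.genLocus_id.ge)

theorem res_one {X : Scheme.{u}} {U V : X.Opens} (h : V ≤ U) : res (Coh.structureModule X) h (one U) = one V :=
  map_one (X.presheaf.map (homOfLE h).op).hom

/-- A map out of the structure sheaf with prescribed compatible values. -/
theorem exists_hom_of_values {X : Scheme.{u}} {M : X.Modules} {ι : Type u} (U : ι → X.Opens) (hU : ⨆ i, U i = ⊤)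
    (σ : ∀ i, Γ(M, U i))
    (hσ : ∀ (i j : ι), res M (inf_le_left : U i ⊓ U j ≤ U i) (σ i) = res M (inf_le_right : U i ⊓ U j ≤ U j) (σ j)) :
    ∃ φ : Coh.structureModule X ⟶ M, ∀ i, val M φ (U i) = σ i := by
  refine Amp73.exists_hom_of_frames (L := Coh.structureModule X) U hU (fun i => one (U i))
    (fun i => isFrame_one _) σ fun i j V hi hj d hd => ?_
  rw [res_one, res_one] at hd
  have hd1 : d = 1 := ((mul_one d).symm.trans hd.symm)
  rw [hd1, one_smul, ← res_res M (inf_le_left : U i ⊓ U j ≤ U i) (le_inf hi hj), hσ, res_res]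

variable {X XP : Scheme.{u}} [FrobSch.IsCharP X p] {π : XP ⟶ X}

theorem surjective_of_isPerfn (h : IsPerfn p π) : Surjective π :=
  ((Groth.Agent.UH57.isUnivHomeo_iff' π).mp h.isUnivHomeo).2.2

/-- Elements of a compact open with equal images agree after a `p`-power. -/
theorem exists_pow_eq_of_app_eq [Surjective π] {U : X.Opens} (hU : IsCompact (U : Set X)) {a b : Γ(X, U)}
    (h : π.app U a = π.app U b) : ∃ r : ℕ, ∀ r', r ≤ r' → a ^ (p ^ r') = b ^ (p ^ r') := by
  obtain ⟨r, hr⟩ := exists_pow_p_eq_zero (p := p) (mem_nilradical.mpr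
    (isNilpotent_of_app_eq_zero (π := π) (s := a - b) hU (by rw [map_sub, h, sub_self])))
  refine ⟨r, fun r' hr' => ?_⟩
  rw [← sub_eq_zero, ← sub_pow_p (FrobSch.natCast_eq_zero_app X p U)]
  exact pow_eq_zero_of_le (Nat.pow_le_pow_right hp.out.pos hr') hr

theorem app_fres (f : XP ⟶ X) {U V : X.Opens} (h : V ≤ U) (a : Γ(X, U)) :
    f.app V (fres h a) = fres (f.preimage_mono h) (f.app U a) := app_map h a

theorem exists_finite_affine_frames [CompactSpace X] {M : X.Modules} (hM : PicF.IsInvertible M) :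
    ∃ (T : Type u) (_ : Fintype T) (V : T → X.Opens) (e : ∀ j, Γ(M, V j)),
      (∀ j, IsAffineOpen (V j)) ∧ (⨆ j, V j = ⊤) ∧ ∀ j, IsFrame M (V j) (e j) := by
  classical
  choose U hxU _hle e he using fun x : X => Mero90.exists_affine_frame hM x ⊤ trivial
  obtain ⟨T, hT⟩ := CompactSpace.isCompact_univ.elim_finite_subcover (fun x : X => ((U x).1 : Set X))
    (fun x => (U x).1.2) (fun x _ => Set.mem_iUnion.2 ⟨x, hxU x⟩)
  refine ⟨T, inferInstance, fun j => (U j.1).1, fun j => e j.1, fun j => (U j.1).2, top_le_iff.1 fun x _ => ?_,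
    fun j => he j.1⟩
  obtain ⟨y, hy, hx⟩ := Set.mem_iUnion₂.1 (hT (Set.mem_univ x))
  exact Opens.mem_iSup.2 ⟨⟨y, hy⟩, hx⟩

/-- The zero locus of a section of the inverse image descends to a power. -/
theorem exists_descend [CompactSpace X] [QuasiSeparatedSpace X] (h : IsPerfn p π) {M : X.Modules}
    (hM : PicF.IsInvertible M) (t : Coh.structureModule XP ⟶ (Scheme.Modules.pullback π).obj M) :
    ∃ (N : ℕ) (σ : Coh.structureModule X ⟶ CohB1.tensorPow M (p ^ N)),
      π ⁻¹ᵁ CohB1.genLocus _ σ = CohB1.genLocus _ t := by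
  classical
  have := surjective_of_isPerfn h
  obtain ⟨T, _, V, e, hV, hcov, he⟩ := exists_finite_affine_frames hM
  have hpe : ∀ j, IsFrame _ (π ⁻¹ᵁ V j) (Amp73.pullS π M (V j) (e j)) := fun j => Amp73.isFrame_pullS π hM (he j)
  choose a ha using fun j => Amp73.exists_coord t (hpe j)
  choose n₀ s₀ hs₀ using fun j => (h.app_pRad (hV j)).2.pow_mem (a j)
  let n := Finset.univ.sup n₀
  let s : ∀ j, Γ(X, V j) := fun j => s₀ j ^ p ^ (n - n₀ j)
  have hs : ∀ j, π.app (V j) (s j) = a j ^ p ^ n := fun j => by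
    simp only [s]
    rw [map_pow, hs₀, ← pow_mul, ← pow_add, Nat.add_sub_cancel' (Finset.le_sup (Finset.mem_univ j))]
  have hD : ∀ j k, ∃ (c : Γ(X, V j ⊓ V k)) (r : ℕ),
      c • res M (inf_le_left : V j ⊓ V k ≤ V j) (e j) = res M (inf_le_right : V j ⊓ V k ≤ V k) (e k) ∧
      ∀ r', r ≤ r' → fres inf_le_left (s j) ^ p ^ r' = (fres inf_le_right (s k) * c ^ p ^ n) ^ p ^ r' := by
    intro j k
    obtain ⟨c, hc⟩ := ((he j) _ (inf_le_left : V j ⊓ V k ≤ V j)).2 (res M inf_le_right (e k))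
    have key : π.app (V j ⊓ V k) (fres inf_le_left (s j)) =
        π.app (V j ⊓ V k) (fres inf_le_right (s k) * c ^ p ^ n) := by
      rw [map_mul, map_pow, app_fres, app_fres, hs, hs]
      simp only [fres, map_pow, ← mul_pow]
      congr 1
      refine ((hpe j) _ (π.preimage_mono inf_le_left)).1 ?_
      show _ • res _ _ (Amp73.pullS π M (V j) (e j)) = _ • res _ _ (Amp73.pullS π M (V j) (e j))
      rw [mul_smul, Amp73.res_pullS π M (inf_le_left : V j ⊓ V k ≤ V j), ← Amp73.pullS_smul,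
        show c • res M inf_le_left (e j) = res M inf_le_right (e k) from hc, ← Amp73.res_pullS,
        ← res_smul, ha, ← Amp73.res_pullS π M (inf_le_right : V j ⊓ V k ≤ V k), ← res_smul, ha,
        res_val, res_val]
    obtain ⟨r, hr⟩ := exists_pow_eq_of_app_eq (p := p) (π := π)
      (QuasiSeparatedSpace.inter_isCompact _ _ (V j).2 (hV j).isCompact (V k).2 (hV k).isCompact) key
    exact ⟨c, r, hc, hr⟩
  choose c r₀ hc hr using hD
  let r := Finset.univ.sup fun jk : T × T => r₀ jk.1 jk.2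
  let Q := p ^ (n + r)
  let G : ∀ j, Γ(CohB1.tensorPow M Q, V j) := fun j => s j ^ p ^ r • Amp73.epow (e j) Q
  obtain ⟨φ, hφ⟩ := exists_hom_of_values V hcov G fun j k => by
    show res _ _ (s j ^ p ^ r • Amp73.epow (e j) Q) = res _ _ (s k ^ p ^ r • Amp73.epow (e k) Q)
    rw [res_smul, res_smul, Amp73.res_epow, Amp73.res_epow, ← hc j k, Amp73.epow_smul, smul_smul,
      show Q = p ^ n * p ^ r from pow_add _ _ _]
    simp only [map_pow]
    rw [pow_mul, ← mul_pow]
    congr 1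
    exact hr j k r (Finset.le_sup (f := fun jk : T × T => r₀ jk.1 jk.2) (Finset.mem_univ (j, k)))
  refine ⟨n + r, φ, ?_⟩
  have key : ∀ j, π ⁻¹ᵁ CohB1.genLocus _ φ ⊓ π ⁻¹ᵁ V j = CohB1.genLocus _ t ⊓ π ⁻¹ᵁ V j := fun j => by
    rw [← Scheme.Hom.preimage_inf, Amp73.genLocus_inf_eq_basicOpen φ (Amp73.isFrame_epow (he j) Q)
      (c := s j ^ p ^ r) (hφ j).symm, Scheme.preimage_basicOpen, map_pow, hs, ← pow_mul, ← pow_add,
      Scheme.basicOpen_pow _ _ (pow_pos hp.out.pos _), Amp73.genLocus_inf_eq_basicOpen t (hpe j) (ha j)]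
  have hcov' : ⨆ j, π ⁻¹ᵁ V j = ⊤ := by rw [← Scheme.Hom.preimage_iSup, hcov]; rfl
  rw [← inf_top_eq (π ⁻¹ᵁ CohB1.genLocus _ φ), ← inf_top_eq (CohB1.genLocus _ t), ← hcov', inf_iSup_eq,
    inf_iSup_eq]
  simp only [key]

/-- A trivialised pullback gives a trivial power. -/
theorem tensorPow_trivial_of_pullback [CompactSpace X] [QuasiSeparatedSpace X] (h : IsPerfn p π)
    {L : X.Modules} (hL : PicF.IsInvertible L)
    (hT : Nonempty ((Scheme.Modules.pullback π).obj L ≅ Coh.structureModule XP)) :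
    ∃ n : ℕ, Nonempty (CohB1.tensorPow L (p ^ n) ≅ Coh.structureModule X) := by
  have := surjective_of_isPerfn h
  obtain ⟨i⟩ := hT
  obtain ⟨N, σ, hσ⟩ := exists_descend h hL i.inv
  have ht : CohB1.genLocus _ i.inv = ⊤ := by
    have := Amp73.genLocus_comp_iso (𝟙 (Coh.structureModule XP)) i.inv
    rwa [Category.id_comp, Amp73.genLocus_id] at this
  have htop : CohB1.genLocus _ σ = ⊤ := top_le_iff.1 fun x _ => by
    obtain ⟨z, rfl⟩ := π.surjective x
    exact (hσ.trans ht).ge (trivial : z ∈ (⊤ : XP.Opens))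
  have := TrivLine96.isIso_of_genLocus_eq_top σ htop
  exact ⟨N, ⟨(asIso σ).symm⟩⟩

/-- On a perfect scheme the Picard group has no `p`-torsion. -/
theorem trivial_of_tensorPow_trivial {Y : Scheme.{u}} (hY : PerfSec p Y) {N : Y.Modules}
    (hN : PicF.IsInvertible N) (n : ℕ)
    (hT : Nonempty (CohB1.tensorPow N (p ^ n) ≅ Coh.structureModule Y)) :
    Nonempty (N ≅ Coh.structureModule Y) := by
  classical
  obtain ⟨i⟩ := hT
  let θ := i.inv
  have hθ : CohB1.genLocus _ θ = ⊤ := by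
    have := Amp73.genLocus_comp_iso (𝟙 (Coh.structureModule Y)) i.inv
    rwa [Category.id_comp, Amp73.genLocus_id] at this
  choose U hxU _hle e he using fun y : Y => Mero90.exists_affine_frame hN y ⊤ trivial
  let V : Y → Y.Opens := fun y => (U y).1
  have hcov : ⨆ y, V y = ⊤ := top_le_iff.1 fun y _ => Opens.mem_iSup.2 ⟨y, hxU y⟩
  choose a ha using fun y => Amp73.exists_coord θ (Amp73.isFrame_epow (he y) (p ^ n))
  have hau : ∀ y, IsUnit (a y) := fun y => by
    obtain ⟨b, hb⟩ := ((Amp73.isFrame_iff_le_genLocus θ (V y)).2 (le_top.trans hθ.ge) _ le_rfl).2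
      (Amp73.epow (e y) (p ^ n))
    dsimp only at hb
    rw [Amp73.res_self, ← ha, smul_smul] at hb
    refine IsUnit.of_mul_eq_one b (((Amp73.isFrame_epow (he y) (p ^ n)) _ le_rfl).1 ?_)
    dsimp only
    rw [Amp73.res_self, one_smul, mul_comm, hb]
  choose w hw using fun y => ((hY (V y)).pow_bij n).2 (a y)
  have hwu : ∀ y, IsUnit (w y) := fun y => by
    have := hau y
    rwa [← hw y, isUnit_pow_iff (pow_pos hp.out.pos n).ne'] at this
  obtain ⟨φ, hφ⟩ := exists_hom_of_values (M := N) V hcov (fun y => w y • e y) fun y z => by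
    obtain ⟨c, hc⟩ := ((he y) _ (inf_le_left : V y ⊓ V z ≤ V y)).2 (res N inf_le_right (e z))
    dsimp only at hc
    rw [res_smul, res_smul, ← hc, smul_smul]
    congr 1
    refine ((hY _).pow_bij n).1 ?_
    show _ ^ p ^ n = (_ * c) ^ p ^ n
    rw [mul_pow, ← map_pow, ← map_pow, show w y ^ p ^ n = a y from hw y, show w z ^ p ^ n = a z from hw z]
    refine ((Amp73.isFrame_epow (he y) (p ^ n)) _ (inf_le_left : V y ⊓ V z ≤ V y)).1 ?_
    show _ • res _ _ (Amp73.epow (e y) _) = _ • res _ _ (Amp73.epow (e y) _)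
    rw [← res_smul, ha, mul_smul, Amp73.res_epow, ← Amp73.epow_smul, hc, ← Amp73.res_epow, ← res_smul, ha,
      res_val, res_val]
  have htop : CohB1.genLocus _ φ = ⊤ := top_le_iff.1 fun y _ => by
    have h1 := Amp73.genLocus_inf_eq_basicOpen φ (he y) (c := w y) (hφ y).symm
    rw [Scheme.basicOpen_of_isUnit _ (hwu y)] at h1
    exact (h1.ge (hxU y)).1
  have := TrivLine96.isIso_of_genLocus_eq_top φ htop
  exact ⟨(asIso φ).symm⟩

theorem isTrivialCl_pullCl_iff [CompactSpace X] [QuasiSeparatedSpace X] (h : IsPerfn p π) {L : X.Modules}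
    (hL : PicF.IsInvertible L) :
    PicF.IsTrivialCl (PicF.pullCl π (PicF.cl L)) ↔
      ∃ n : ℕ, PicF.IsTrivialCl (PicF.cl (CohB1.tensorPow L (p ^ n))) := by
  constructor
  · intro hT
    obtain ⟨n, i⟩ := tensorPow_trivial_of_pullback h hL (exists_iso_of_cl_eq hT)
    exact ⟨n, Quot.sound i⟩
  · rintro ⟨n, hn⟩
    obtain ⟨i⟩ := exists_iso_of_cl_eq hn
    exact Quot.sound (trivial_of_tensorPow_trivial h.perf (Amp73.isInvertible_pullback π hL) n
      ⟨(Amp73.pullPowIso π hL _).symm ≪≫ (Scheme.Modules.pullback π).mapIso i ≪≫ PicLoc.pullbackStructureIso π⟩)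

/-- Ampleness of the inverse image on the perfection implies ampleness. -/
theorem isAmple_of_isAmple_pullback [CompactSpace X] [QuasiSeparatedSpace X] (h : IsPerfn p π)
    {L : X.Modules} (hL : PicF.IsInvertible L)
    (hA : CohB1.IsAmple ((Scheme.Modules.pullback π).obj L)) : CohB1.IsAmple L := by
  have := surjective_of_isPerfn h
  have := h.isAffineHom
  refine Amp73.isAmple_iff.2 ⟨hL, inferInstance, fun x => ?_⟩
  obtain ⟨z, rfl⟩ := π.surjective x
  obtain ⟨_, ⟨m, s, rfl⟩, hz, haff⟩ := (Amp73.isAmple_iff.1 hA).2.2 z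
  have hM := EGA73.isInvertible_tensorPow hL (m + 1)
  obtain ⟨N, σ, hσ⟩ := exists_descend h hM (s ≫ (Amp73.pullPowIso π hL (m + 1)).inv)
  rw [Amp73.genLocus_comp_iso] at hσ
  set W := CohB1.genLocus _ σ
  have hWc : IsCompact (W : Set X) := by
    have e : (W : Set X) = π '' (CohB1.genLocus _ s : Set XP) := by
      rw [← hσ]
      exact (Set.image_preimage_eq _ π.surjective).symm
    rw [e]
    exact haff.isCompact.image π.continuous
  have hWaff : IsAffineOpen W := by
    have : IsAffine (π ⁻¹ᵁ W : Scheme.{u}) := show IsAffineOpen (π ⁻¹ᵁ W) from hσ ▸ haff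
    have : CompactSpace W := isCompact_iff_compactSpace.mp hWc
    have : QuasiSeparatedSpace W :=
      (isQuasiSeparated_iff_quasiSeparatedSpace _ W.2).mp (.of_quasiSeparatedSpace _)
    have : FrobSch.IsCharP (W : Scheme.{u}) p := ⟨by
      rw [← map_natCast W.ι.appTop.hom, FrobSch.IsCharP.natCast_eq_zero, map_zero]⟩
    exact (h.restrict W).isAffine
  exact ⟨W, Amp73.mem_genSet_of_tensorPow (Nat.succ_pos m)
    (Amp73.mem_genSet_of_tensorPow (pow_pos hp.out.pos N) (Amp73.mem_genSet_one σ)), hσ.ge hz, hWaff⟩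

/-- An invertible module on the perfection has a `p`-power which comes from below. -/
theorem exists_tensorPow_iso_pullback [CompactSpace X] [QuasiSeparatedSpace X] (h : IsPerfn p π)
    {M : XP.Modules} (hM : PicF.IsInvertible M) :
    ∃ (n : ℕ) (L : X.Modules), PicF.IsInvertible L ∧
      Nonempty (CohB1.tensorPow M (p ^ n) ≅ (Scheme.Modules.pullback π).obj L) := by
  classical
  have := surjective_of_isPerfn h
  have hhom := isHomeomorph_of_isUnivHomeo h.isUnivHomeo
  have hloc : ∀ x : X, ∃ V : X.affineOpens, x ∈ V.1 ∧ ∃ e : Γ(M, π ⁻¹ᵁ V.1), IsFrame M (π ⁻¹ᵁ V.1) e := by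
    intro x
    obtain ⟨z, rfl⟩ := π.surjective x
    obtain ⟨W, hzW, -, e, he⟩ := Mero90.exists_affine_frame hM z ⊤ trivial
    let W' : X.Opens := ⟨π '' (W.1 : Set XP), hhom.isOpenMap _ W.1.2⟩
    obtain ⟨V, hV, hzV, hle⟩ := exists_isAffineOpen_mem_and_subset (U := W') (x := π z) ⟨z, hzW, rfl⟩
    have hle' : π ⁻¹ᵁ V ≤ W.1 := fun y hy => by
      obtain ⟨y', hy', e'⟩ := hle hy
      exact hhom.injective e' ▸ hy'
    exact ⟨⟨V, hV⟩, hzV, res M hle' e, he.res hle'⟩
  choose V₀ hxV e₀ he₀ using hloc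
  obtain ⟨T, hT⟩ := CompactSpace.isCompact_univ.elim_finite_subcover (fun x : X => ((V₀ x).1 : Set X))
    (fun x => (V₀ x).1.2) (fun x _ => Set.mem_iUnion.2 ⟨x, hxV x⟩)
  let V : T → X.Opens := fun j => (V₀ j.1).1
  have hV : ∀ j, IsAffineOpen (V j) := fun j => (V₀ j.1).2
  have hcov : ∀ x : X, ∃ j, x ∈ V j := fun x => by
    obtain ⟨y, hy, hx⟩ := Set.mem_iUnion₂.1 (hT (Set.mem_univ x))
    exact ⟨⟨y, hy⟩, hx⟩
  let e : ∀ j : T, Γ(M, π ⁻¹ᵁ V j) := fun j => e₀ j.1
  have he : ∀ j, IsFrame M (π ⁻¹ᵁ V j) (e j) := fun j => he₀ j.1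
  choose c hc using fun j k => ((he j) _ (π.preimage_mono (inf_le_left : V j ⊓ V k ≤ V j))).2
    (res M (π.preimage_mono (inf_le_right : V j ⊓ V k ≤ V k)) (e k))
  dsimp only at hc
  have hc' : ∀ (j k : T) (A : X.Opens) (hA : A ≤ V j ⊓ V k),
      fres (π.preimage_mono hA) (c j k) • res M (π.preimage_mono (hA.trans inf_le_left)) (e j) =
        res M (π.preimage_mono (hA.trans inf_le_right)) (e k) := fun j k A hA => by
    rw [← res_res M (π.preimage_mono (inf_le_left : V j ⊓ V k ≤ V j)) (π.preimage_mono hA), ← res_smul, hc,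
      res_res]
  have hcmp : ∀ j k, IsCompact ((V j ⊓ V k : X.Opens) : Set X) := fun j k =>
    QuasiSeparatedSpace.inter_isCompact _ _ (V j).2 (hV j).isCompact (V k).2 (hV k).isCompact
  choose n₀ s₀ hs₀ using fun j k => (h.pRad_of_isCompact (hcmp j k)).pow_mem (c j k)
  let n := Finset.univ.sup fun jk : T × T => n₀ jk.1 jk.2
  let s : ∀ j k, Γ(X, V j ⊓ V k) := fun j k => s₀ j k ^ p ^ (n - n₀ j k)
  have hs : ∀ j k, π.app (V j ⊓ V k) (s j k) = c j k ^ p ^ n := fun j k => by
    simp only [s]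
    rw [map_pow, hs₀, ← pow_mul, ← pow_add,
      Nat.add_sub_cancel' (Finset.le_sup (f := fun jk : T × T => n₀ jk.1 jk.2) (Finset.mem_univ (j, k)))]
  have hD : ∀ j k l, ∃ r, ∀ r', r ≤ r' →
      (fres (le_inf (inf_le_left.trans inf_le_left) (inf_le_left.trans inf_le_right) :
          V j ⊓ V k ⊓ V l ≤ V j ⊓ V k) (s j k) *
        fres (le_inf (inf_le_left.trans inf_le_right) inf_le_right : V j ⊓ V k ⊓ V l ≤ V k ⊓ V l) (s k l)) ^ p ^ r' =
      fres (le_inf (inf_le_left.trans inf_le_left) inf_le_right : V j ⊓ V k ⊓ V l ≤ V j ⊓ V l) (s j l) ^ p ^ r' := by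
    intro j k l
    refine exists_pow_eq_of_app_eq (p := p) (π := π)
      (QuasiSeparatedSpace.inter_isCompact _ _ (V j ⊓ V k).2 (hcmp j k) (V l).2 (hV l).isCompact) ?_
    rw [map_mul, app_fres, app_fres, app_fres, hs, hs, hs]
    simp only [fres, map_pow, ← mul_pow]
    congr 1
    refine ((he j) _ (π.preimage_mono (inf_le_left.trans inf_le_left : V j ⊓ V k ⊓ V l ≤ V j))).1 ?_
    show _ • res M _ (e j) = _ • res M _ (e j)
    rw [mul_comm, mul_smul,
      hc' j k _ (le_inf (inf_le_left.trans inf_le_left) (inf_le_left.trans inf_le_right) :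
        V j ⊓ V k ⊓ V l ≤ V j ⊓ V k),
      hc' k l _ (le_inf (inf_le_left.trans inf_le_right) inf_le_right : V j ⊓ V k ⊓ V l ≤ V k ⊓ V l),
      hc' j l _ (le_inf (inf_le_left.trans inf_le_left) inf_le_right : V j ⊓ V k ⊓ V l ≤ V j ⊓ V l)]
  have hD1 : ∀ j, ∃ r, ∀ r', r ≤ r' → s j j ^ p ^ r' = 1 ^ p ^ r' := fun j => by
    refine exists_pow_eq_of_app_eq (p := p) (π := π) (hcmp j j) ?_
    rw [hs, map_one]
    have : c j j = 1 := ((he j) _ (π.preimage_mono (inf_le_left : V j ⊓ V j ≤ V j))).1 (by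
      dsimp only
      rw [one_smul, hc])
    rw [this, one_pow]
  choose r₀ hr₀ using hD
  choose r₁ hr₁ using hD1
  let r := (Finset.univ.sup fun jkl : T × T × T => r₀ jkl.1 jkl.2.1 jkl.2.2) + Finset.univ.sup r₁
  let S : ∀ j k, Γ(X, V j ⊓ V k) := fun j k => s j k ^ p ^ r
  obtain ⟨L, g, hLinv, hg, hgc⟩ := EGA73.exists_lineBundle hcov S
    (fun j => by
      simp only [S]
      rw [hr₁ j r ((Finset.le_sup (Finset.mem_univ j)).trans (Nat.le_add_left _ _)), one_pow])
    (fun j k l A hjk hkl hjl => by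
      have hA : A ≤ V j ⊓ V k ⊓ V l := le_inf hjk (hkl.trans inf_le_right)
      have := congrArg (fres hA) (hr₀ j k l r ((Finset.le_sup
        (f := fun jkl : T × T × T => r₀ jkl.1 jkl.2.1 jkl.2.2) (Finset.mem_univ (j, k, l))).trans
          (Nat.le_add_right _ _)))
      simp only [S, fres, map_pow, map_mul, Curves2.Glue.map_map_fn] at this ⊢
      rw [← mul_pow]
      exact this)
  refine ⟨n + r, L, hLinv, ?_⟩
  let Q := p ^ (n + r)
  have hcov' : ⨆ j, π ⁻¹ᵁ V j = ⊤ := top_le_iff.1 fun z _ => by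
    obtain ⟨j, hj⟩ := hcov (π z)
    exact Opens.mem_iSup.2 ⟨j, hj⟩
  have hpg : ∀ j, IsFrame _ (π ⁻¹ᵁ V j) (Amp73.pullS π L (V j) (g j)) := fun j => Amp73.isFrame_pullS π hLinv (hg j)
  obtain ⟨φ, hφ⟩ := Amp73.exists_hom_of_frames (L := CohB1.tensorPow M Q) (M := (Scheme.Modules.pullback π).obj L)
    (fun j => π ⁻¹ᵁ V j) hcov' (fun j => Amp73.epow (e j) Q) (fun j => Amp73.isFrame_epow (he j) Q)
    (fun j => Amp73.pullS π L (V j) (g j)) fun j k O hj hk d hd => by
      have hO : O ≤ π ⁻¹ᵁ (V j ⊓ V k) := le_inf hj hk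
      have h1 : fres hO (c j k ^ Q) • res (CohB1.tensorPow M Q) hj (Amp73.epow (e j) Q) =
          res (CohB1.tensorPow M Q) hk (Amp73.epow (e k) Q) := by
        rw [Amp73.res_epow, Amp73.res_epow, ← res_res M (π.preimage_mono (inf_le_left : V j ⊓ V k ≤ V j)) hO,
          ← res_res M (π.preimage_mono (inf_le_right : V j ⊓ V k ≤ V k)) hO, ← hc j k, res_smul,
          Amp73.epow_smul]
        simp only [fres, map_pow]
      obtain rfl : fres hO (c j k ^ Q) = d :=
        ((Amp73.isFrame_epow (he j) Q) O hj).1 (h1.trans hd)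
      have h2 : π.app (V j ⊓ V k) (S j k) = c j k ^ Q := by
        simp only [S]
        rw [map_pow, hs, ← pow_mul, ← pow_add]
      rw [← res_res _ (π.preimage_mono (inf_le_left : V j ⊓ V k ≤ V j)) hO,
        ← res_res _ (π.preimage_mono (inf_le_right : V j ⊓ V k ≤ V k)) hO,
        Amp73.res_pullS π L (inf_le_left : V j ⊓ V k ≤ V j), Amp73.res_pullS π L (inf_le_right : V j ⊓ V k ≤ V k),
        hgc j k, Amp73.pullS_smul, h2, res_smul]
  have : IsIso φ := Amp73.isIso_of_frames φ fun z => by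
    obtain ⟨j, hj⟩ := hcov (π z)
    exact ⟨π ⁻¹ᵁ V j, Amp73.epow (e j) Q, hj, Amp73.isFrame_epow (he j) Q, by rw [hφ j]; exact hpg j⟩
  exact ⟨asIso φ⟩

end Groth.Agent.PerfSch56
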