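import Groth.Agent.PerfSch56.PerfLimit
import Groth.Agent.Approx60.Absolute
import Groth.Agent.E4O.DvrCrit
import Mathlib.RingTheory.ZMod
import Mathlib.Data.ZMod.QuotientRing

/-! A compact perfect scheme is the perfection of a scheme of finite presentation over the prime field. -/

set_option autoImplicit false
set_option linter.unusedSectionVars false
set_option backward.isDefEq.respectTransparency.types false

universe u

open CategoryTheory CategoryTheory.Limits AlgebraicGeometry Opposite

noncomputable section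

namespace Groth.Agent.PerfSch56

open Perf96

variable (p : ℕ) [hp : Fact p.Prime]

/-- The spectrum of the prime field. -/
abbrev Fp : Scheme.{u} := Spec (CommRingCat.of (ULift.{u} (ZMod p)))

instance isCharP_Fp : FrobSch.IsCharP (Fp.{u} p) p := ⟨by
  apply (Scheme.ΓSpecIso (CommRingCat.of (ULift.{u} (ZMod p)))).commRingCatIsoToRingEquiv.injective
  rw [map_natCast, map_zero]
  exact ULift.down_injective (ZMod.natCast_self p)⟩

theorem hom_Fp_unique (W : Scheme.{u}) (a b : W ⟶ Fp.{u} p) : a = b := by
  apply ext_of_isAffine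
  rw [← cancel_epi (Scheme.ΓSpecIso (CommRingCat.of (ULift.{u} (ZMod p)))).inv]
  refine CommRingCat.hom_ext ?_
  refine RingHom.cancel_right (f := (ULift.ringEquiv (R := ZMod p)).symm.toRingHom)
    (ULift.ringEquiv (R := ZMod p)).symm.surjective |>.1 ?_
  exact Subsingleton.elim _ _

theorem exists_toFp (W : Scheme.{u}) [h : FrobSch.IsCharP W p] : Nonempty (W ⟶ Fp.{u} p) := by
  let φ₀ : ℤ ⧸ Ideal.span {(p : ℤ)} →+* Γ(W, ⊤) :=
    Ideal.Quotient.lift _ (Int.castRingHom _) (fun a ha => by
      obtain ⟨b, rfl⟩ := Ideal.mem_span_singleton.1 ha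
      rw [map_mul, map_natCast, h.natCast_eq_zero, zero_mul])
  let φ : ULift.{u} (ZMod p) →+* Γ(W, ⊤) :=
    φ₀.comp ((Int.quotientSpanNatEquivZMod p).symm.toRingHom.comp ULift.ringEquiv.toRingHom)
  exact ⟨W.toSpecΓ ≫ Spec.map (CommRingCat.ofHom φ)⟩

instance isClosedImmersion_toZ_Fp : IsClosedImmersion (Approx60.toZ (Fp.{u} p)) := by
  let φ : ULift.{u} ℤ →+* ULift.{u} (ZMod p) :=
    ULift.ringEquiv.symm.toRingHom.comp ((Int.castRingHom (ZMod p)).comp ULift.ringEquiv.toRingHom)
  have hφ : Function.Surjective φ :=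
    ULift.ringEquiv.symm.surjective.comp ((ZMod.intCast_surjective).comp ULift.ringEquiv.surjective)
  have e : Approx60.toZ (Fp.{u} p) = Spec.map (CommRingCat.ofHom φ) := specULiftZIsTerminal.hom_ext _ _
  rw [e]
  exact IsClosedImmersion.spec_of_surjective _ hφ

/-- Approximation over the prime field. -/
theorem exists_approximation_Fp (X : Scheme.{u}) [CompactSpace X] [QuasiSeparatedSpace X] [FrobSch.IsCharP X p] :
    ∃ (J : Type u) (_ : SmallCategory J) (_ : IsCofiltered J) (D : J ⥤ Scheme.{u})
      (s : ∀ j, D.obj j ⟶ Fp.{u} p) (π : (Functor.const J).obj X ⟶ D),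
      Nonempty (IsLimit (Cone.mk X π)) ∧ (∀ ⦃i j : J⦄ (a : i ⟶ j), IsAffineHom (D.map a)) ∧
      ∀ j, LocallyOfFinitePresentation (s j) ∧ CompactSpace (D.obj j) ∧ QuasiSeparatedSpace (D.obj j) := by
  obtain ⟨J, _, _, D, π, hD, ⟨hlim⟩⟩ := Approx60.exists_approximation X
  let b := Approx60.toZ (Fp.{u} p)
  let D' : J ⥤ Scheme.{u} :=
    { obj := fun j => pullback (Approx60.toZ (D.obj j)) b
      map := fun {i j} a => pullback.lift (pullback.fst _ b ≫ D.map a) (pullback.snd _ b)
        (specULiftZIsTerminal.hom_ext _ _)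
      map_id := fun j => pullback.hom_ext
        (by rw [pullback.lift_fst, D.map_id, Category.comp_id, Category.id_comp])
        (hom_Fp_unique p _ _ _)
      map_comp := fun {i j k} a a' => pullback.hom_ext
        (by rw [pullback.lift_fst, D.map_comp, Category.assoc, pullback.lift_fst, pullback.lift_fst_assoc,
          Category.assoc])
        (hom_Fp_unique p _ _ _) }
  obtain ⟨a₀⟩ := exists_toFp p X
  let π' : (Functor.const J).obj X ⟶ D' :=
    { app := fun j => pullback.lift (π.app j) a₀ (specULiftZIsTerminal.hom_ext _ _)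
      naturality := fun i j a => pullback.hom_ext
        (by
          dsimp [D']
          rw [Category.id_comp, pullback.lift_fst, Category.assoc, pullback.lift_fst, pullback.lift_fst_assoc]
          exact ((Category.id_comp _).symm.trans (π.naturality a)))
        (hom_Fp_unique p _ _ _) }
  let proj : ∀ s : Cone D', Cone D := fun s =>
    { pt := s.pt
      π :=
      { app := fun j => s.π.app j ≫ pullback.fst _ b
        naturality := fun i j a => by
          have := s.π.naturality a
          dsimp [D'] at this ⊢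
          rw [Category.id_comp] at this ⊢
          rw [this, Category.assoc, pullback.lift_fst, Category.assoc] } }
  have hlim' : IsLimit (Cone.mk X π') :=
    { lift := fun s => hlim.lift (proj s)
      fac := fun s j => pullback.hom_ext
        (by
          show (hlim.lift (proj s) ≫ pullback.lift (π.app j) a₀ _) ≫ pullback.fst _ b = _
          rw [Category.assoc, pullback.lift_fst]
          exact hlim.fac (proj s) j)
        (hom_Fp_unique p _ _ _)
      uniq := fun s m hm => hlim.hom_ext fun j => by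
        refine Eq.trans ?_ (hlim.fac (proj s) j).symm
        show m ≫ π.app j = s.π.app j ≫ pullback.fst _ b
        rw [← hm j]
        show _ = (m ≫ pullback.lift (π.app j) a₀ _) ≫ pullback.fst _ b
        rw [Category.assoc, pullback.lift_fst] }
  have hnoeth : IsNoetherianRing (ULift.{u} (ZMod p)) :=
    isNoetherianRing_of_ringEquiv (ZMod p) ULift.ringEquiv.symm
  refine ⟨J, inferInstance, inferInstance, D', fun j => pullback.snd _ b, π', ⟨hlim'⟩, fun i j a => ?_, fun j => ?_⟩
  · have := hD.aff i j a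
    have : IsAffineHom (D'.map a ≫ pullback.fst (Approx60.toZ (D.obj j)) b) := by
      show IsAffineHom (pullback.lift _ _ _ ≫ pullback.fst _ b)
      rw [pullback.lift_fst]
      infer_instance
    exact IsAffineHom.of_comp (D'.map a) (pullback.fst (Approx60.toZ (D.obj j)) b)
  · have := hD.lft j
    have := hD.compact j
    have := Approx60.quasiSeparatedSpace_of_lft_toZ (D.obj j)
    refine ⟨E4O.locallyOfFinitePresentation_of_isLocallyNoetherian _, ?_, ?_⟩
    · exact QuasiCompact.compactSpace_of_compactSpace (pullback.fst (Approx60.toZ (D.obj j)) b)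
    · exact quasiSeparatedSpace_of_quasiSeparated (pullback.fst (Approx60.toZ (D.obj j)) b)

/-- The equaliser of two maps of a scheme of finite type over the prime field is such a scheme. -/
theorem exists_equalizer {T : Scheme.{u}} (s : T ⟶ Fp.{u} p) [LocallyOfFinitePresentation s] [CompactSpace T]
    [QuasiSeparatedSpace T] (h g : T ⟶ T) :
    ∃ (X0 : Scheme.{u}) (ι : X0 ⟶ T), LocallyOfFinitePresentation (ι ≫ s) ∧ CompactSpace X0 ∧
      QuasiSeparatedSpace X0 ∧ ι ≫ h = ι ≫ g ∧
      ∀ (W : Scheme.{u}) (w : W ⟶ T), w ≫ h = w ≫ g → ∃! v : W ⟶ X0, v ≫ ι = w := by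
  have hnoeth : IsNoetherianRing (ULift.{u} (ZMod p)) :=
    isNoetherianRing_of_ringEquiv (ZMod p) ULift.ringEquiv.symm
  let hg : T ⟶ pullback s s := pullback.lift h g (hom_Fp_unique p _ _ _)
  let ι := pullback.fst hg (pullback.diagonal s)
  have hι : ι ≫ h = pullback.snd hg (pullback.diagonal s) ∧ ι ≫ g = pullback.snd hg (pullback.diagonal s) := by
    have h1 : ι ≫ hg = pullback.snd hg (pullback.diagonal s) ≫ pullback.diagonal s := pullback.condition
    have ef : hg ≫ pullback.fst s s = h := pullback.lift_fst _ _ _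
    have eg : hg ≫ pullback.snd s s = g := pullback.lift_snd _ _ _
    refine ⟨?_, ?_⟩
    · rw [← ef, ← Category.assoc, h1, Category.assoc, pullback.diagonal_fst, Category.comp_id]
    · rw [← eg, ← Category.assoc, h1, Category.assoc, pullback.diagonal_snd, Category.comp_id]
  have hqs : QuasiSeparated s := QuasiSeparated.of_quasiSeparatedSpace s
  have hqc : QuasiCompact (pullback.diagonal s) := QuasiSeparated.quasiCompact_diagonal
  refine ⟨pullback hg (pullback.diagonal s), ι, ?_, ?_, ?_, hι.1.trans hι.2.symm, fun W w hw => ?_⟩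
  · exact E4O.locallyOfFinitePresentation_of_isLocallyNoetherian _
  · exact QuasiCompact.compactSpace_of_compactSpace ι
  · exact quasiSeparatedSpace_of_quasiSeparated ι
  · have ef : hg ≫ pullback.fst s s = h := pullback.lift_fst _ _ _
    have eg : hg ≫ pullback.snd s s = g := pullback.lift_snd _ _ _
    refine ⟨pullback.lift w (w ≫ h) (pullback.hom_ext
      (by rw [Category.assoc, Category.assoc, ef, pullback.diagonal_fst, Category.comp_id])
      (by rw [Category.assoc, Category.assoc, eg, pullback.diagonal_snd, Category.comp_id, hw])),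
      pullback.lift_fst _ _ _, fun v hv => pullback.hom_ext (by rw [pullback.lift_fst]; exact hv) ?_⟩
    rw [pullback.lift_snd, ← hι.1, ← Category.assoc]
    exact congrArg (· ≫ h) hv

/-- A compact perfect scheme has a model of finite presentation. -/
theorem exists_model (X : Scheme.{u}) [FrobSch.IsCharP X p] [CompactSpace X] [QuasiSeparatedSpace X]
    (hX : PerfSec p X)
    (hc : ∀ (J : Type u) [SmallCategory J] [IsCofiltered J] (F : J ⥤ Scheme.{u}) (c : Cone F), IsLimit c →
      (∀ ⦃i j : J⦄ (a : i ⟶ j), IsAffineHom (F.map a)) →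
      (∀ j, PerfSec p (F.obj j) ∧ CompactSpace (F.obj j) ∧ QuasiSeparatedSpace (F.obj j)) →
      PerfSec p c.pt → CompactSpace c.pt → QuasiSeparatedSpace c.pt →
      ∀ g : c.pt ⟶ X, ∃ (j : J) (gj : F.obj j ⟶ X), c.π.app j ≫ gj = g) :
    ∃ (X0 : Scheme.{u}) (s : X0 ⟶ Fp.{u} p), LocallyOfFinitePresentation s ∧
      CompactSpace X0 ∧ QuasiSeparatedSpace X0 ∧ ∃ π : X ⟶ X0, IsPerfn p π := by
  obtain ⟨J, _, _, D, s, π, ⟨hlim⟩, haff, hD⟩ := exists_approximation_Fp p X
  have hDc : ∀ j, FrobSch.IsCharP (D.obj j) p := fun j => FrobSch.IsCharP.of_hom (s j) p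
  choose P q hq using fun j => exists_perfn p (D.obj j)
  have hmap : ∀ {i j : J} (a : i ⟶ j), ∃ f : P i ⟶ P j, f ≫ q j = q i ≫ D.map a := fun {i j} a =>
    ((hq j).bij (P i) (hq i).perf).2 _
  choose fP hfP using @hmap
  let F : J ⥤ Scheme.{u} :=
    { obj := P
      map := fun a => fP a
      map_id := fun j => ((hq j).bij (P j) (hq j).perf).1 (by
        show fP (𝟙 j) ≫ q j = 𝟙 (P j) ≫ q j
        rw [hfP, D.map_id, Category.comp_id, Category.id_comp])
      map_comp := fun {i j k} a a' => ((hq k).bij (P i) (hq i).perf).1 (by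
        show fP (a ≫ a') ≫ q k = (fP a ≫ fP a') ≫ q k
        rw [hfP, Category.assoc, hfP, ← Category.assoc, hfP, D.map_comp, Category.assoc]) }
  have hFaff : ∀ ⦃i j : J⦄ (a : i ⟶ j), IsAffineHom (F.map a) := fun i j a =>
    (isAffineHom_iff_perfn (hq i) (hq j) (hfP a)).mp (haff a)
  choose a ha using fun j => ((hq j).bij X hX).2 (π.app j)
  simp only at ha
  let c : Cone F :=
    { pt := X
      π :=
      { app := fun j => a j
        naturality := fun i j φ => ((hq j).bij X hX).1 (by
          show (𝟙 X ≫ a j) ≫ q j = (a i ≫ fP φ) ≫ q j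
          rw [Category.id_comp, ha, Category.assoc, hfP, ← Category.assoc, ha]
          exact (Category.id_comp _).symm.trans (π.naturality φ)) } }
  have : ∀ (i j : J) (φ : i ⟶ j), IsAffineHom (F.map φ) := fun i j φ => hFaff φ
  have := Approx60.hasLimit_of_isAffineHom F
  have hLperf : PerfSec p (limit F) := perfSec_of_isLimit p (fun j => (hq j).perf) _ (limit.isLimit F)
  let D1 : Cone D :=
    { pt := limit F
      π :=
      { app := fun j => limit.π F j ≫ q j
        naturality := fun i j φ => by
          show 𝟙 _ ≫ limit.π F j ≫ q j = (limit.π F i ≫ q i) ≫ D.map φ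
          rw [Category.id_comp, Category.assoc, ← hfP, ← Category.assoc]
          exact congrArg (· ≫ q j) (limit.w F φ).symm } }
  have h1 : limit.lift F c ≫ hlim.lift D1 = 𝟙 X := hlim.hom_ext fun j => by
    refine (Category.assoc _ _ _).trans ((congrArg (limit.lift F c ≫ ·) (hlim.fac D1 j)).trans ?_)
    show limit.lift F c ≫ limit.π F j ≫ q j = 𝟙 X ≫ π.app j
    rw [limit.lift_π_assoc, Category.id_comp]
    exact ha j
  have h2 : hlim.lift D1 ≫ limit.lift F c = 𝟙 (limit F) := limit.hom_ext fun j =>
    ((hq j).bij (limit F) hLperf).1 (by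
      show ((hlim.lift D1 ≫ limit.lift F c) ≫ limit.π F j) ≫ q j = (𝟙 _ ≫ limit.π F j) ≫ q j
      rw [Category.id_comp, Category.assoc, Category.assoc, limit.lift_π_assoc]
      show hlim.lift D1 ≫ a j ≫ q j = limit.π F j ≫ q j
      rw [ha]
      exact hlim.fac D1 j)
  have hclim : IsLimit c :=
    (limit.isLimit F).ofIsoLimit (Cones.ext ⟨hlim.lift D1, limit.lift F c, h2, h1⟩ fun j =>
      ((hq j).bij (limit F) hLperf).1 (by
        show limit.π F j ≫ q j = (hlim.lift D1 ≫ a j) ≫ q j
        rw [Category.assoc, ha]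
        exact (hlim.fac D1 j).symm))
  have hFobj : ∀ j, PerfSec p (F.obj j) ∧ CompactSpace (F.obj j) ∧ QuasiSeparatedSpace (F.obj j) := fun j => by
    have := (hD j).2.1
    have := (hD j).2.2
    have := (hq j).isAffineHom
    exact ⟨(hq j).perf, QuasiCompact.compactSpace_of_compactSpace (q j),
      quasiSeparatedSpace_of_quasiSeparated (q j)⟩
  obtain ⟨j, r, hr⟩ := hc J F c hclim hFaff hFobj hX inferInstance inferInstance (𝟙 X)
  change a j ≫ r = 𝟙 X at hr
  have := (hD j).1
  have := (hD j).2.1
  have := (hD j).2.2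
  have hPc : FrobSch.IsCharP (P j) p := (hq j).perf.isCharP
  let e := r ≫ a j
  obtain ⟨n, hn, key⟩ := exists_descend_hom p (s j) (s j) (hom_Fp_unique p) (hq j) (e ≫ q j)
  obtain ⟨X0, ι, hfp, hcomp, hqsep, hι, huniv⟩ := exists_equalizer p (s j) hn (fr p (D.obj j) n)
  have heq : ∀ {W : Scheme.{u}}, PerfSec p W → ∀ u : W ⟶ P j,
      ((u ≫ q j) ≫ hn = (u ≫ q j) ≫ fr p (D.obj j) n ↔ u ≫ e = u) := by
    intro W hW u
    have := hW.isCharP
    have := isIso_fr p hW n
    have h3 : (u ≫ q j) ≫ hn = fr p W n ≫ (u ≫ e) ≫ q j := by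
      rw [Category.assoc, ← key, ← Category.assoc, ← fr_comp, Category.assoc, Category.assoc]
      simp only [e, Category.assoc]
    rw [h3, ← fr_comp, cancel_epi]
    exact ⟨fun h => ((hq j).bij W hW).1 h, fun h => by rw [h]⟩
  have hu0 : a j ≫ e = a j := by rw [← Category.assoc, hr, Category.id_comp]
  obtain ⟨π0, hπ0, -⟩ := huniv X (a j ≫ q j) ((heq hX (a j)).2 hu0)
  refine ⟨X0, ι ≫ s j, hfp, hcomp, hqsep, π0, hX, fun W hW => ⟨fun v v' hv => ?_, fun g => ?_⟩⟩
  · have h4 : (v ≫ a j) ≫ q j = (v' ≫ a j) ≫ q j := by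
      rw [Category.assoc, Category.assoc, ← hπ0, ← Category.assoc, ← Category.assoc]
      exact congrArg (· ≫ ι) hv
    have h5 := ((hq j).bij W hW).1 h4
    rw [← Category.comp_id v, ← Category.comp_id v', ← hr, ← Category.assoc, ← Category.assoc, h5]
  · obtain ⟨u, hu⟩ := ((hq j).bij W hW).2 (g ≫ ι)
    change u ≫ q j = g ≫ ι at hu
    have h6 : u ≫ e = u := (heq hW u).1 (by rw [hu, Category.assoc, hι, Category.assoc])
    refine ⟨u ≫ r, ?_⟩
    obtain ⟨v, -, hv⟩ := huniv W (g ≫ ι) (by rw [Category.assoc, hι, Category.assoc])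
    refine (hv _ ?_).trans (hv g rfl).symm
    show ((u ≫ r) ≫ π0) ≫ ι = g ≫ ι
    rw [Category.assoc, hπ0, ← hu, ← Category.assoc, Category.assoc u r]
    exact congrArg (· ≫ q j) h6

end Groth.Agent.PerfSch56
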