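import Groth.Agent.Perf96.Morph
import Groth.Agent.Approx60.LimitExists

/-! Perfections as limits of Frobenius towers, and limits of perfect schemes. -/

set_option autoImplicit false
set_option linter.unusedSectionVars false
set_option backward.isDefEq.respectTransparency.types false

universe u

open CategoryTheory CategoryTheory.Limits AlgebraicGeometry Opposite

noncomputable section

namespace Groth.Agent.PerfSch56

open Perf96

variable (p : ℕ) [hp : Fact p.Prime]

/-- The iterated Frobenius. -/
def fr (X : Scheme.{u}) [FrobSch.IsCharP X p] : ℕ → (X ⟶ X)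
  | 0 => 𝟙 X
  | n + 1 => fr X n ≫ FrobSch.frob X p

theorem fr_add (X : Scheme.{u}) [FrobSch.IsCharP X p] (m : ℕ) : ∀ n, fr p X (m + n) = fr p X m ≫ fr p X n
  | 0 => (Category.comp_id _).symm
  | n + 1 => by
    show fr p X (m + n) ≫ _ = fr p X m ≫ fr p X n ≫ _
    rw [fr_add X m n, Category.assoc]

theorem fr_comp {X Y : Scheme.{u}} [FrobSch.IsCharP X p] [FrobSch.IsCharP Y p] (f : X ⟶ Y) :
    ∀ n, fr p X n ≫ f = f ≫ fr p Y n
  | 0 => (Category.id_comp f).trans (Category.comp_id f).symm
  | n + 1 => by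
    show (fr p X n ≫ _) ≫ f = f ≫ fr p Y n ≫ _
    rw [Category.assoc, FrobSch.frob_comp, ← Category.assoc, fr_comp f n, Category.assoc]

theorem isIso_fr {X : Scheme.{u}} [FrobSch.IsCharP X p] (hX : PerfSec p X) : ∀ n, IsIso (fr p X n)
  | 0 => inferInstanceAs (IsIso (𝟙 X))
  | n + 1 => by
    have : IsIso (fr p X n) := isIso_fr hX n
    have : IsIso (FrobSch.frob X p) := (perfSec_iff_isPerfect p X).mp hX
    exact inferInstanceAs (IsIso (fr p X n ≫ FrobSch.frob X p))

theorem isAffineHom_fr (X : Scheme.{u}) [FrobSch.IsCharP X p] : ∀ n, IsAffineHom (fr p X n)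
  | 0 => inferInstanceAs (IsAffineHom (𝟙 X))
  | n + 1 => by
    have : IsAffineHom (fr p X n) := isAffineHom_fr X n
    have : IsAffineHom (FrobSch.frob X p) := isAffineHom_of_isUnivHomeo (isUnivHomeo_frob (p := p) X)
    exact inferInstanceAs (IsAffineHom (fr p X n ≫ FrobSch.frob X p))

/-- The index category of the tower. -/
abbrev TowerIdx : Type u := (ULift.{u} ℕ)ᵒᵖ

/-- The Frobenius tower. -/
def tower (X : Scheme.{u}) [FrobSch.IsCharP X p] : TowerIdx.{u} ⥤ Scheme.{u} where
  obj _ := X
  map {a b} _ := fr p X (a.unop.down - b.unop.down)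
  map_id a := by simp [fr]
  map_comp {a b c} f g := by
    have h1 : b.unop.down ≤ a.unop.down := (leOfHom f.unop :)
    have h2 : c.unop.down ≤ b.unop.down := (leOfHom g.unop :)
    rw [← fr_add]
    congr 1
    omega

instance isAffineHom_tower_map (X : Scheme.{u}) [FrobSch.IsCharP X p] (a b : TowerIdx.{u}) (f : a ⟶ b) :
    IsAffineHom ((tower p X).map f) := isAffineHom_fr p X _

/-- Level `n` of the tower. -/
abbrev lev (n : ℕ) : TowerIdx.{u} := op ⟨n⟩

/-- The projection to level `n`. -/
abbrev proj {X : Scheme.{u}} [FrobSch.IsCharP X p] (c : Cone (tower p X)) (n : ℕ) : c.pt ⟶ X := c.π.app (lev n)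

theorem tower_w {X : Scheme.{u}} [FrobSch.IsCharP X p] (c : Cone (tower p X)) {m n : ℕ} (h : n ≤ m) :
    proj p c m ≫ fr p X (m - n) = proj p c n :=
  c.w (show lev m ⟶ lev n from (homOfLE (show (⟨n⟩ : ULift.{u} ℕ) ≤ ⟨m⟩ from h)).op)

theorem isPerfn_tower {X : Scheme.{u}} [FrobSch.IsCharP X p] (c : Cone (tower p X)) (hc : IsLimit c) :
    IsPerfn p (proj p c 0) := by
  have hchar : FrobSch.IsCharP c.pt p := FrobSch.IsCharP.of_hom (proj p c 0) p
  have hperf : PerfSec p c.pt := by
    rw [perfSec_iff_isPerfect]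
    let c' : Cone (tower p X) :=
      { pt := c.pt
        π :=
        { app := fun a => proj p c (a.unop.down + 1)
          naturality := fun a b f => by
            have h1 : b.unop.down ≤ a.unop.down := (leOfHom f.unop :)
            show 𝟙 c.pt ≫ proj p c (b.unop.down + 1) =
              proj p c (a.unop.down + 1) ≫ fr p X (a.unop.down - b.unop.down)
            rw [Category.id_comp, show a.unop.down - b.unop.down = a.unop.down + 1 - (b.unop.down + 1) by omega,
              tower_w p c (show b.unop.down + 1 ≤ a.unop.down + 1 by omega)] } }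
    have key : ∀ n : ℕ, proj p c (n + 1) ≫ FrobSch.frob X p = proj p c n := fun n => by
      have := tower_w p c (show n ≤ n + 1 by omega)
      rw [show n + 1 - n = 1 by omega] at this
      simp only [fr, Category.id_comp] at this
      exact this
    refine ⟨hc.lift c', hc.hom_ext fun a => ?_, hc.hom_ext fun a => ?_⟩
    · rw [Category.assoc, hc.fac c', Category.id_comp]
      show FrobSch.frob c.pt p ≫ proj p c (a.unop.down + 1) = proj p c a.unop.down
      rw [FrobSch.frob_comp]
      exact key a.unop.down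
    · rw [Category.assoc, Category.id_comp]
      show hc.lift c' ≫ FrobSch.frob c.pt p ≫ proj p c a.unop.down = proj p c a.unop.down
      rw [FrobSch.frob_comp, ← Category.assoc]
      refine Eq.trans ?_ (key a.unop.down)
      exact congrArg (fun m : c.pt ⟶ X => m ≫ FrobSch.frob X p) (hc.fac c' a)
  refine ⟨hperf, fun W hW => ?_⟩
  have := hW.isCharP
  have hi : ∀ n, IsIso (fr p W n) := isIso_fr p hW
  have key : ∀ (u : W ⟶ c.pt) (n : ℕ), fr p W n ≫ u ≫ proj p c n = u ≫ proj p c 0 := fun u n => by
    rw [← Category.assoc, fr_comp, Category.assoc, fr_comp]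
    congr 1
    exact tower_w p c (Nat.zero_le n)
  refine ⟨fun u v huv => hc.hom_ext fun a => ?_, fun g => ?_⟩
  · have := hi a.unop.down
    exact (cancel_epi (fr p W a.unop.down)).1
      (((key u a.unop.down).trans huv).trans (key v a.unop.down).symm)
  · let g' : W ⟶ X := g
    let w : ℕ → (W ⟶ X) := fun n => @inv _ _ _ _ (fr p W n) (hi n) ≫ g'
    have hw : ∀ m n, n ≤ m → w m ≫ fr p X (m - n) = w n := fun m n h1 => by
      have := hi m
      have := hi n
      show (inv (fr p W m) ≫ g') ≫ fr p X (m - n) = inv (fr p W n) ≫ g'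
      rw [Category.assoc, ← fr_comp, ← Category.assoc]
      congr 1
      rw [IsIso.inv_comp_eq, IsIso.eq_comp_inv, ← fr_add, Nat.sub_add_cancel h1]
    let c' : Cone (tower p X) :=
      { pt := W
        π :=
        { app := fun a => w a.unop.down
          naturality := fun a b f => by
            show 𝟙 W ≫ w b.unop.down = w a.unop.down ≫ fr p X (a.unop.down - b.unop.down)
            rw [Category.id_comp, hw _ _ (leOfHom f.unop :)] } }
    refine ⟨hc.lift c', (hc.fac c' (lev 0)).trans ?_⟩
    have := hi 0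
    show inv (fr p W 0) ≫ g' = g'
    rw [IsIso.inv_comp_eq]
    exact (Category.id_comp g').symm

theorem exists_tower_limit (X : Scheme.{u}) [FrobSch.IsCharP X p] :
    ∃ (c : Cone (tower p X)) (_ : IsLimit c), IsPerfn p (proj p c 0) := by
  have := Approx60.hasLimit_of_isAffineHom (tower p X)
  exact ⟨limit.cone _, limit.isLimit _, isPerfn_tower p _ (limit.isLimit _)⟩

theorem exists_perfn (X : Scheme.{u}) [FrobSch.IsCharP X p] :
    ∃ (XP : Scheme.{u}) (π : XP ⟶ X), IsPerfn p π := by
  obtain ⟨c, -, h⟩ := exists_tower_limit p X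
  exact ⟨c.pt, proj p c 0, h⟩

/-- A morphism from the perfection to a target of finite presentation factors through some level of the tower. -/
theorem exists_descend_hom {X T S : Scheme.{u}} [FrobSch.IsCharP X p] [CompactSpace X] [QuasiSeparatedSpace X]
    (f : T ⟶ S) [LocallyOfFinitePresentation f] (sX : X ⟶ S) (hS : ∀ (W : Scheme.{u}) (a b : W ⟶ S), a = b)
    {XP : Scheme.{u}} {π : XP ⟶ X} (hπ : IsPerfn p π) (h : XP ⟶ T) :
    ∃ (n : ℕ) (g : X ⟶ T), ∀ [FrobSch.IsCharP XP p], fr p XP n ≫ h = π ≫ g := by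
  obtain ⟨c, hc, hperf⟩ := exists_tower_limit p X
  obtain ⟨e, he⟩ := perfn_iso (p := p) hperf hπ
  let t : tower p X ⟶ (Functor.const TowerIdx.{u}).obj S :=
    { app := fun _ => sX
      naturality := fun a b φ => hS _ _ _ }
  have : ∀ i, CompactSpace ((tower p X).obj i) := fun _ => ‹CompactSpace X›
  have : ∀ i, QuasiSeparatedSpace ((tower p X).obj i) := fun _ => ‹QuasiSeparatedSpace X›
  have : ∀ {i j : TowerIdx.{u}} (φ : i ⟶ j), IsAffineHom ((tower p X).map φ) := fun φ => inferInstance
  obtain ⟨a, g, hg, -⟩ := Scheme.exists_π_app_comp_eq_of_locallyOfFinitePresentation (tower p X) t f c hc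
    (e.hom ≫ h) (NatTrans.ext (funext fun i => hS _ _ _))
  let g' : X ⟶ T := g
  let e' : c.pt ⟶ XP := e.hom
  have : IsIso e' := inferInstanceAs (IsIso e.hom)
  have hg' : proj p c a.unop.down ≫ g' = e' ≫ h := hg
  have he' : e' ≫ π = proj p c 0 := he
  refine ⟨a.unop.down, g', fun {_} => (cancel_epi e').1 ?_⟩
  have hcc : FrobSch.IsCharP c.pt p := FrobSch.IsCharP.of_hom (proj p c 0) p
  rw [← Category.assoc e' π, he', ← Category.assoc, ← fr_comp p e', Category.assoc, ← hg', ← Category.assoc,
    fr_comp p (proj p c a.unop.down)]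
  congr 1
  exact tower_w p c (Nat.zero_le _)

/-- A limit of perfect schemes along affine morphisms is perfect. -/
theorem perfSec_of_isLimit {J : Type u} [SmallCategory J] [IsCofiltered J] {F : J ⥤ Scheme.{u}}
    (hF : ∀ j, PerfSec p (F.obj j)) (c : Cone F) (hc : IsLimit c) : PerfSec p c.pt := by
  obtain ⟨j₀⟩ := IsCofiltered.nonempty (C := J)
  have hC : ∀ j, FrobSch.IsCharP (F.obj j) p := fun j => (hF j).isCharP
  have : FrobSch.IsCharP c.pt p := FrobSch.IsCharP.of_hom (c.π.app j₀) p
  have hi : ∀ j, IsIso (FrobSch.frob (F.obj j) p) := fun j => (perfSec_iff_isPerfect p _).mp (hF j)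
  rw [perfSec_iff_isPerfect]
  let c' : Cone F :=
    { pt := c.pt
      π :=
      { app := fun j => c.π.app j ≫ inv (FrobSch.frob (F.obj j) p)
        naturality := fun i j a => by
          show 𝟙 _ ≫ c.π.app j ≫ inv (FrobSch.frob (F.obj j) p) =
            (c.π.app i ≫ inv (FrobSch.frob (F.obj i) p)) ≫ F.map a
          rw [Category.id_comp, Category.assoc, ← c.w a, Category.assoc]
          congr 1
          rw [IsIso.eq_inv_comp, ← Category.assoc, FrobSch.frob_comp, Category.assoc, IsIso.hom_inv_id,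
            Category.comp_id] } }
  refine ⟨hc.lift c', hc.hom_ext fun j => ?_, hc.hom_ext fun j => ?_⟩
  · rw [Category.assoc, hc.fac c', Category.id_comp]
    show FrobSch.frob c.pt p ≫ c.π.app j ≫ inv (FrobSch.frob (F.obj j) p) = c.π.app j
    rw [FrobSch.frob_comp_assoc, IsIso.hom_inv_id, Category.comp_id]
  · rw [Category.assoc, Category.id_comp, FrobSch.frob_comp, ← Category.assoc, hc.fac c']
    show (c.π.app j ≫ inv (FrobSch.frob (F.obj j) p)) ≫ FrobSch.frob (F.obj j) p = c.π.app j
    rw [Category.assoc, IsIso.inv_hom_id, Category.comp_id]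

end Groth.Agent.PerfSch56
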